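import Groth.Agent.CMFlatLib.Dim
import Groth.Agent.CMFlatLib.QFFlat
import Groth.Agent.CMFlatLib.Open
import Groth.Agent.FlatLib.SchemeFlat
import Groth.Agent.FlatLib.OpenFP
import Groth.Agent.FlatLib.QFCover
import Groth.Agent.RichLib.QFLocusConstructible
import Groth.Agent.FibDimLib.QFAffine
import Mathlib

/-!
# Chains of systems of parameters at a rational Cohen–Macaulay point
-/

set_option autoImplicit false
set_option linter.style.haveILetI false
universe u

open MvPolynomial

noncomputable section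

namespace QFChainLib

variable {k B : Type u} [Field k] [CommRing B] [Algebra k B] {ι : Type u}

/-- The tuple `a`, shifted by its values, cuts out `q` near `q`. -/
def Slim (q : Ideal B) (a : ι → B) : Prop :=
  ∀ P : PrimeSpectrum B, P.asIdeal ≤ q → (∀ i, ∃ c : k, a i - algebraMap k B c ∈ P.asIdeal) → P.asIdeal = q

/-- The map given by `a` is quasi-finite and flat at `q`. -/
def Good (q : Ideal B) [q.IsPrime] (a : ι → B) : Prop :=
  letI := (MvPolynomial.aeval (R := k) a).toRingHom.toAlgebra
  Algebra.QuasiFiniteAt (MvPolynomial ι k) q ∧ Module.Flat (MvPolynomial ι k) (Localization.AtPrime q)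

theorem const_unique (q : Ideal B) [q.IsPrime] {b : B} {c d : k}
    (hc : b - algebraMap k B c ∈ q) (hd : b - algebraMap k B d ∈ q) : c = d := by
  by_contra h
  have h1 : algebraMap k B (d - c) ∈ q := by
    have h2 := q.sub_mem hc hd
    rwa [sub_sub_sub_cancel_left, ← map_sub] at h2
  have h3 : IsUnit (algebraMap k B (d - c)) :=
    (sub_ne_zero.mpr (Ne.symm h)).isUnit.map (algebraMap k B)
  exact (inferInstance : q.IsPrime).ne_top (Ideal.eq_top_of_isUnit_mem _ h1 h3)

theorem comap_aeval_eq (P : Ideal B) [P.IsPrime] (a : ι → B) {l : ι → k}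
    (h : ∀ i, a i - algebraMap k B (l i) ∈ P) :
    P.comap (MvPolynomial.aeval (R := k) a).toRingHom =
      RingHom.ker (MvPolynomial.aeval (R := k) l).toRingHom := by
  have hc : (Ideal.Quotient.mkₐ k P).comp (MvPolynomial.aeval a) =
      (Algebra.ofId k (B ⧸ P)).comp (MvPolynomial.aeval l) := by
    refine MvPolynomial.algHom_ext fun i => ?_
    simp only [AlgHom.comp_apply, aeval_X]
    exact Ideal.Quotient.eq.mpr (h i)
  ext f
  rw [Ideal.mem_comap, RingHom.mem_ker, ← Ideal.Quotient.eq_zero_iff_mem]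
  show (Ideal.Quotient.mkₐ k P) (MvPolynomial.aeval a f) = 0 ↔ MvPolynomial.aeval l f = 0
  rw [← AlgHom.comp_apply, hc, AlgHom.comp_apply]
  exact map_eq_zero_iff _ (algebraMap k (B ⧸ P)).injective

theorem sub_mem_of_comap_eq (P : Ideal B) (a : ι → B) {l : ι → k}
    (h : P.comap (MvPolynomial.aeval (R := k) a).toRingHom =
      RingHom.ker (MvPolynomial.aeval (R := k) l).toRingHom) (i : ι) :
    a i - algebraMap k B (l i) ∈ P := by
  have : (X i - C (l i) : MvPolynomial ι k) ∈ RingHom.ker (MvPolynomial.aeval (R := k) l).toRingHom := by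
    simp [RingHom.mem_ker]
  rw [← h] at this
  simpa [Ideal.mem_comap] using this

variable [Algebra.FiniteType k B] [Finite ι]

theorem height_comap (q : Ideal B) [q.IsPrime] (hk : ∀ b : B, ∃ c : k, b - algebraMap k B c ∈ q)
    (a : ι → B) :
    ((q.comap (MvPolynomial.aeval (R := k) a).toRingHom).height : WithBot ℕ∞) = (Nat.card ι : ℕ) := by
  choose l hl using fun i => hk (a i)
  have e := comap_aeval_eq q a hl
  set p := q.comap (MvPolynomial.aeval (R := k) a).toRingHom with hp
  have hsurj : Function.Surjective (MvPolynomial.aeval (R := k) l).toRingHom := fun c =>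
    ⟨C c, by simp⟩
  haveI : p.IsMaximal := e ▸ RingHom.ker_isMaximal_of_surjective _ hsurj
  have h := FibDimLib.ringKrullDim_quotient_add_height_affine k (MvPolynomial ι k) p
  letI := Ideal.Quotient.field p
  rwa [ringKrullDim_eq_zero_of_field, zero_add, MvPolynomial.ringKrullDim_of_isNoetherianRing,
    ringKrullDim_eq_zero_of_field, zero_add] at h

theorem slim_of_good (q : Ideal B) [q.IsPrime] {a : ι → B} (h : Good (k := k) q a) : Slim (k := k) q a := by
  intro P hPq hP
  choose l hl using hP
  letI := (MvPolynomial.aeval (R := k) a).toRingHom.toAlgebra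
  haveI : Algebra.QuasiFiniteAt (MvPolynomial ι k) q := h.1
  refine Algebra.QuasiFiniteAt.eq_of_le_of_under_eq (R := MvPolynomial ι k) hPq ?_
  exact (comap_aeval_eq P.asIdeal a hl).trans (comap_aeval_eq q a fun i => hPq (hl i)).symm

theorem dim_of_good (q : Ideal B) [q.IsPrime] (hk : ∀ b : B, ∃ c : k, b - algebraMap k B c ∈ q)
    {a : ι → B} (h : Good (k := k) q a) :
    ringKrullDim (Localization.AtPrime q) = (Nat.card ι : ℕ) := by
  haveI : IsNoetherianRing B := Algebra.FiniteType.isNoetherianRing k B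
  letI := (MvPolynomial.aeval (R := k) a).toRingHom.toAlgebra
  haveI : Algebra.QuasiFiniteAt (MvPolynomial ι k) q := h.1
  rw [CMFlatLib.ringKrullDim_eq_height_of_flat (A := MvPolynomial ι k) q h.2]
  exact height_comap q hk a

theorem good_of_slim (q : Ideal B) [q.IsMaximal] (hk : ∀ b : B, ∃ c : k, b - algebraMap k B c ∈ q)
    (hcm : CommAlgDim.IsCM (Localization.AtPrime q))
    (hdim : ringKrullDim (Localization.AtPrime q) = (Nat.card ι : ℕ)) {a : ι → B}
    (h : Slim (k := k) q a) : Good (k := k) q a := by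
  haveI : IsNoetherianRing B := Algebra.FiniteType.isNoetherianRing k B
  choose l hl using fun i => hk (a i)
  letI := (MvPolynomial.aeval (R := k) a).toRingHom.toAlgebra
  haveI : IsScalarTower k (MvPolynomial ι k) B := IsScalarTower.of_algebraMap_eq fun c =>
    ((MvPolynomial.aeval (R := k) a).commutes c).symm
  haveI : Algebra.FiniteType (MvPolynomial ι k) B :=
    Algebra.FiniteType.of_restrictScalars_finiteType k _ B
  have hmin : ∀ P : PrimeSpectrum B, P.asIdeal.comap (algebraMap (MvPolynomial ι k) B) =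
      q.comap (algebraMap (MvPolynomial ι k) B) → P.asIdeal ≤ q → P.asIdeal = q := fun P hP hle =>
    h P hle fun i => ⟨l i, sub_mem_of_comap_eq P.asIdeal a (hP.trans (comap_aeval_eq q a hl)) i⟩
  refine ⟨?_, CMFlatLib.flat_of_isCM_minimal q hmin hcm (hdim.trans (height_comap q hk a).symm)⟩
  refine CMFlatLib.quasiFiniteAt_of_isolated (R := MvPolynomial ι k) ⟨q, inferInstance⟩ fun P hP hor => ?_
  refine PrimeSpectrum.ext ?_
  rcases hor with hle | hge
  · exact hmin P (congrArg PrimeSpectrum.asIdeal hP) hle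
  · exact ((inferInstance : q.IsMaximal).eq_of_le P.isPrime.ne_top hge).symm

/-- Two tuples differing in at most one entry, both slim. -/
def Step (q : Ideal B) (a b : ι → B) : Prop :=
  Slim (k := k) q a ∧ Slim (k := k) q b ∧ ∃ i, ∀ j, j ≠ i → a j = b j

omit [Finite ι] in
theorem exists_swap [DecidableEq ι] (q : Ideal B) [q.IsPrime]
    (hk : ∀ b : B, ∃ c : k, b - algebraMap k B c ∈ q) (i₀ : ι) (a a' : ι → B)
    (ha : Slim (k := k) q a) (ha' : Slim (k := k) q a') :
    ∃ c, Slim (k := k) q (Function.update a i₀ c) ∧ Slim (k := k) q (Function.update a' i₀ c) := by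
  classical
  haveI : IsNoetherianRing B := Algebra.FiniteType.isNoetherianRing k B
  choose l hl using hk
  let T : (ι → B) → Set B := fun d => (fun i => d i - algebraMap k B (l (d i))) '' {i | i ≠ i₀}
  have hT : ∀ d, T d ⊆ q := by
    rintro d _ ⟨i, -, rfl⟩
    exact hl _
  let S : Set (Ideal B) := {P | (P ∈ (Ideal.span (T a)).minimalPrimes ∨
    P ∈ (Ideal.span (T a')).minimalPrimes) ∧ ¬ q ≤ P}
  have hS : S.Finite :=
    ((Ideal.finite_minimalPrimes_of_isNoetherianRing B _).union
      (Ideal.finite_minimalPrimes_of_isNoetherianRing B _)).subset fun P hP => hP.1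
  obtain ⟨c, hcq, hcS⟩ : ∃ c ∈ q, ∀ P ∈ S, c ∉ P := by
    by_contra hne
    push Not at hne
    have hsub : (q : Set B) ⊆ ⋃ P ∈ (hS.toFinset : Set (Ideal B)), ((id P : Ideal B) : Set B) := by
      intro c hc
      obtain ⟨P, hP, hcP⟩ := hne c hc
      exact Set.mem_biUnion (hS.mem_toFinset.mpr hP) hcP
    obtain ⟨P, hP, hle⟩ := (Ideal.subset_union_prime (R := B) (f := id) (⊥ : Ideal B) (⊥ : Ideal B)
      (fun P hP _ _ => (hS.mem_toFinset.mp hP).1.elim (fun h => h.isPrime) (fun h => h.isPrime))).mp hsub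
    exact (hS.mem_toFinset.mp hP).2 hle
  have key : ∀ d, Slim (k := k) q d →
      (∀ P ∈ (Ideal.span (T d)).minimalPrimes, ¬ q ≤ P → c ∉ P) →
      Slim (k := k) q (Function.update d i₀ c) := by
    intro d hd hcd P hPq hP
    haveI := P.isPrime
    have hTP : T d ⊆ P.asIdeal := by
      rintro _ ⟨i, hi, rfl⟩
      obtain ⟨μ, hμ⟩ := hP i
      rw [Function.update_of_ne hi] at hμ
      show d i - algebraMap k B (l (d i)) ∈ P.asIdeal
      rwa [const_unique q (hl (d i)) (hPq hμ)]
    have hcP : c ∈ P.asIdeal := by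
      obtain ⟨μ, hμ⟩ := hP i₀
      rw [Function.update_self] at hμ
      have h0 : μ = 0 := const_unique q (hPq hμ) (by rwa [map_zero, sub_zero])
      rwa [h0, map_zero, sub_zero] at hμ
    obtain ⟨P₀, hP₀, hP₀le⟩ := Ideal.exists_minimalPrimes_le (Ideal.span_le.mpr hTP)
    by_cases hq0 : q ≤ P₀
    · exact le_antisymm hPq (hq0.trans hP₀le)
    by_contra hne
    have hmin : q ∈ (Ideal.span (insert (d i₀ - algebraMap k B (l (d i₀))) (T d))).minimalPrimes := by
      refine ⟨⟨inferInstance, Ideal.span_le.mpr (Set.insert_subset_iff.mpr ⟨hl _, hT d⟩)⟩,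
        fun Q hQ hQq => ?_⟩
      refine (hd ⟨Q, hQ.1⟩ hQq fun i => ⟨l (d i), ?_⟩).ge
      by_cases hi : i = i₀
      · exact hQ.2 (Ideal.subset_span (hi ▸ Set.mem_insert _ _))
      · exact hQ.2 (Ideal.subset_span (Set.mem_insert_of_mem _ ⟨i, hi, rfl⟩))
    have hPmin := Ideal.mem_minimalPrimes_span_of_mem_minimalPrimes_span_insert
      (lt_of_le_of_ne hPq hne) (d i₀ - algebraMap k B (l (d i₀))) (T d) hmin (T d) hTP
      (fun z hz => Ideal.le_radical (Ideal.subset_span (Set.mem_insert_of_mem _ hz)))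
    exact hcd P₀ hP₀ hq0 (hPmin.2 hP₀.1 hP₀le hcP)
  exact ⟨c, key a ha fun P hP hq => hcS P ⟨Or.inl hP, hq⟩,
    key a' ha' fun P hP hq => hcS P ⟨Or.inr hP, hq⟩⟩

theorem reflTransGen_step (q : Ideal B) [q.IsPrime] (hk : ∀ b : B, ∃ c : k, b - algebraMap k B c ∈ q)
    (a b : ι → B) (ha : Slim (k := k) q a) (hb : Slim (k := k) q b) :
    Relation.ReflTransGen (Step (k := k) q) a b := by
  classical
  haveI := Fintype.ofFinite ι
  induction hn : (Finset.univ.filter fun i => a i ≠ b i).card using Nat.strong_induction_on generalizing a b with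
  | h n IH =>
    by_cases hab : a = b
    · exact hab ▸ .refl
    obtain ⟨i₀, hi₀⟩ := Function.ne_iff.mp hab
    obtain ⟨c, hc, hc'⟩ := exists_swap q hk i₀ a b ha hb
    have h1 : Step (k := k) q a (Function.update a i₀ c) :=
      ⟨ha, hc, i₀, fun j hj => (Function.update_of_ne hj _ _).symm⟩
    have h2 : Step (k := k) q (Function.update b i₀ c) b :=
      ⟨hc', hb, i₀, fun j hj => Function.update_of_ne hj _ _⟩
    refine Relation.ReflTransGen.trans (.single h1) (Relation.ReflTransGen.trans ?_ (.single h2))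
    refine IH _ ?_ _ _ hc hc' rfl
    rw [← hn]
    refine Finset.card_lt_card (Finset.ssubset_iff_of_subset ?_ |>.mpr ⟨i₀, ?_, ?_⟩)
    · intro i hi
      by_cases h : i = i₀
      · subst h; simp at hi
      · simpa [Function.update_of_ne h] using hi
    · simp [hi₀]
    · simp

/-- Two good tuples at a rational Cohen–Macaulay point are joined by a chain of good tuples, each
differing from the previous one in at most one entry. -/
theorem exists_chain (q : Ideal B) [q.IsMaximal] (hk : ∀ b : B, ∃ c : k, b - algebraMap k B c ∈ q)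
    (hcm : CommAlgDim.IsCM (Localization.AtPrime q)) (a b : ι → B)
    (ha : Good (k := k) q a) (hb : Good (k := k) q b) :
    ∃ (m : ℕ) (c : ℕ → ι → B), c 0 = a ∧ c m = b ∧ (∀ j ≤ m, Good (k := k) q (c j)) ∧
      ∀ j < m, ∃ i, ∀ i', i' ≠ i → c j i' = c (j + 1) i' := by
  have hdim := dim_of_good q hk ha
  have hstep := reflTransGen_step q hk a b (slim_of_good q ha) (slim_of_good q hb)
  clear hb
  induction hstep with
  | refl => exact ⟨0, fun _ => a, rfl, rfl, fun _ _ => ha, fun j hj => absurd hj (Nat.not_lt_zero j)⟩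
  | @tail d e _ h ih =>
    obtain ⟨m, c, h0, hm, hg, hs⟩ := ih
    refine ⟨m + 1, fun j => if j ≤ m then c j else e, by simpa using h0, by simp, fun j _ => ?_, fun j hj => ?_⟩
    · by_cases hj : j ≤ m
      · simpa [hj] using hg j hj
      · simpa [hj] using good_of_slim q hk hcm hdim h.2.1
    · have hjm : j ≤ m := Nat.lt_succ_iff.mp hj
      by_cases hj' : j + 1 ≤ m
      · simpa [hjm, hj'] using hs j hj'
      · obtain rfl : j = m := by omega
        obtain ⟨i, hi⟩ := h.2.2
        exact ⟨i, fun i' hi' => by simpa [hm] using hi i' hi'⟩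

/-- Near `q`, a good tuple defines a quasi-finite flat map. -/
theorem exists_basicOpen_good (q : Ideal B) [q.IsPrime] {a : ι → B} (h : Good (k := k) q a) :
    ∃ U : Set (PrimeSpectrum B), IsOpen U ∧ ⟨q, inferInstance⟩ ∈ U ∧
      ∀ z ∈ U, Good (k := k) z.asIdeal a := by
  haveI : IsNoetherianRing B := Algebra.FiniteType.isNoetherianRing k B
  letI := (MvPolynomial.aeval (R := k) a).toRingHom.toAlgebra
  haveI : IsScalarTower k (MvPolynomial ι k) B := IsScalarTower.of_algebraMap_eq fun c =>
    ((MvPolynomial.aeval (R := k) a).commutes c).symm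
  haveI : Algebra.FiniteType (MvPolynomial ι k) B :=
    Algebra.FiniteType.of_restrictScalars_finiteType k _ B
  haveI : Algebra.FinitePresentation (MvPolynomial ι k) B :=
    Algebra.FinitePresentation.of_finiteType.mp inferInstance
  refine ⟨{z | Algebra.QuasiFiniteAt (MvPolynomial ι k) z.asIdeal} ∩ FlatLib.flatLocus (MvPolynomial ι k) B B,
    (RichLib.QFLocus.isOpen_setOf_quasiFiniteAt _ _).inter FlatLib.isOpen_flatLocus_fp,
    ⟨h.1, (FlatLib.mem_flatLocus_self_iff ⟨q, inferInstance⟩).mpr h.2⟩,
    fun z hz => ⟨hz.1, (FlatLib.mem_flatLocus_self_iff z).mp hz.2⟩⟩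

omit [Finite ι] in
theorem good_of_global (q : Ideal B) [q.IsPrime] {a : ι → B}
    (h1 : (MvPolynomial.aeval (R := k) a).toRingHom.QuasiFinite)
    (h2 : (MvPolynomial.aeval (R := k) a).toRingHom.Flat) : Good (k := k) q a := by
  letI := (MvPolynomial.aeval (R := k) a).toRingHom.toAlgebra
  haveI : Algebra.QuasiFinite (MvPolynomial ι k) B := h1
  haveI : Module.Flat (MvPolynomial ι k) B := h2
  haveI : Module.Flat B (Localization.AtPrime q) := IsLocalization.flat _ q.primeCompl
  exact ⟨inferInstance, Module.Flat.trans _ B _⟩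

/-- A tuple good on a basic open defines a quasi-finite flat map on it. -/
theorem away_of_good {a : ι → B} (g : B) (h : ∀ z : PrimeSpectrum B, g ∉ z.asIdeal → Good (k := k) z.asIdeal a)
    (L : Type u) [CommRing L] [Algebra B L] [IsLocalization.Away g L] :
    ((algebraMap B L).comp (MvPolynomial.aeval (R := k) a).toRingHom).QuasiFinite ∧
      ((algebraMap B L).comp (MvPolynomial.aeval (R := k) a).toRingHom).Flat := by
  letI := (MvPolynomial.aeval (R := k) a).toRingHom.toAlgebra
  haveI : IsScalarTower k (MvPolynomial ι k) B := IsScalarTower.of_algebraMap_eq fun c =>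
    ((MvPolynomial.aeval (R := k) a).commutes c).symm
  haveI : Algebra.FiniteType (MvPolynomial ι k) B :=
    Algebra.FiniteType.of_restrictScalars_finiteType k _ B
  letI : Algebra (MvPolynomial ι k) L :=
    ((algebraMap B L).comp (MvPolynomial.aeval (R := k) a).toRingHom).toAlgebra
  haveI : IsScalarTower (MvPolynomial ι k) B L := IsScalarTower.of_algebraMap_eq fun _ => rfl
  haveI : Algebra.FiniteType B L := IsLocalization.finiteType_of_monoid_fg (Submonoid.powers g) L
  haveI : Algebra.FiniteType (MvPolynomial ι k) L := Algebra.FiniteType.trans ‹_› ‹_›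
  constructor
  · show Algebra.QuasiFinite (MvPolynomial ι k) L
    refine FibDimLib.quasiFinite_of_forall fun Q => ?_
    let z : PrimeSpectrum B := PrimeSpectrum.comap (algebraMap B L) Q
    have hz : g ∉ z.asIdeal := fun hg => Q.isPrime.ne_top
      (Ideal.eq_top_of_isUnit_mem _ hg (IsLocalization.Away.algebraMap_isUnit g))
    haveI : Algebra.QuasiFiniteAt (MvPolynomial ι k) z.asIdeal := (h z hz).1
    haveI : Q.asIdeal.LiesOver z.asIdeal := ⟨rfl⟩
    exact Algebra.QuasiFiniteAt.of_surjectiveOnStalks_of_liesOver z.asIdeal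
      (RingHom.surjectiveOnStalks_of_isLocalization (Submonoid.powers g) L) Q.asIdeal
  · show Module.Flat (MvPolynomial ι k) L
    haveI := FlatLib.flat_away_of_basicOpen (R := MvPolynomial ι k) g fun z hz =>
      (FlatLib.mem_flatLocus_self_iff z).mpr (h z hz).2
    exact Module.Flat.of_linearEquiv
      ((IsLocalization.algEquiv (Submonoid.powers g) L (Localization.Away g)).toLinearEquiv.restrictScalars
        (MvPolynomial ι k))

end QFChainLib
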